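import Groth.Agent.Ega4fib.H179.Basic
import Groth.Agent.S1335

/-!
# From the case of a section to the case of a section after a proper or flat base change
-/

set_option autoImplicit false
universe u

open CategoryTheory CategoryTheory.Limits AlgebraicGeometry

namespace Groth.Agent.Ega4fib.H179.Cover

open Groth.Agent.Ega4fib.H179.Basic

/-- The statement of the theorem in the case of a section. -/
def SectionCase : Prop :=
  ∀ {X Y : Scheme.{u}} (f : X ⟶ Y) [IsSeparated f] [LocallyOfFinitePresentation f] [QuasiCompact f]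
    (s : Y ⟶ X), s ≫ f = 𝟙 Y → (∀ y : Y, MoreMor.nGeomConnComp f y ≤ 1) →
    ∀ y : Y, IsProper (f.fiberToSpecResidueField y) → ∃ U : Y.Opens, y ∈ U ∧ IsProper (f ∣_ U)

theorem of_sectionCase (H : SectionCase.{u}) {X Y Y' : Scheme.{u}} (f : X ⟶ Y)
    [IsSeparated f] [LocallyOfFinitePresentation f] [QuasiCompact f]
    (g : Y' ⟶ Y) [Surjective g] [LocallyOfFinitePresentation g] [QuasiCompact g]
    (hg : IsProper g ∨ Flat g) (σ : Y' ⟶ X) (hσ : σ ≫ f = g)
    (hconn : ∀ y : Y, MoreMor.nGeomConnComp f y ≤ 1) :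
    ∃ U : Y.Opens, (U : Set Y) = {y : Y | IsProper (f.fiberToSpecResidueField y)} ∧
      IsProper (f ∣_ U) := by
  let f' : pullback f g ⟶ Y' := pullback.snd f g
  let s' : Y' ⟶ pullback f g := pullback.lift σ (𝟙 Y') (by simp [hσ])
  have hs' : s' ≫ f' = 𝟙 Y' := pullback.lift_snd _ _ _
  have hpb : IsPullback (pullback.fst f g) f' f g := .of_hasPullback _ _
  have hconn' : ∀ y' : Y', MoreMor.nGeomConnComp f' y' ≤ 1 := fun y' => by
    rw [Groth.Agent.S1335.result f f' _ g hpb y']
    exact hconn _
  have key := H f' s' hs' hconn'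
  -- the set of points of `Y'` with proper fibre is open
  have hpre : g ⁻¹' {y : Y | IsProper (f.fiberToSpecResidueField y)} =
      {y' : Y' | IsProper (f'.fiberToSpecResidueField y')} := by
    ext y'
    exact (isProper_fiber_iff f f' _ g hpb y').symm
  have hopen' : IsOpen {y' : Y' | IsProper (f'.fiberToSpecResidueField y')} := by
    rw [isOpen_iff_forall_mem_open]
    intro y' hy'
    obtain ⟨V, hyV, hV⟩ := key y' hy'
    refine ⟨V, ?_, V.2, hyV⟩
    intro z hz
    refine of_isPullback_of_range_subset (P := @IsProper) f' V hV (Y'.fromSpecResidueField z) ?_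
      (IsPullback.of_hasPullback _ _)
    rintro _ ⟨w, rfl⟩
    rw [Scheme.fromSpecResidueField_apply]
    exact hz
  -- `g` is a quotient map
  have hquot : Topology.IsQuotientMap g := by
    rcases hg with hg | hg
    · exact IsClosedMap.isQuotientMap g.isClosedMap g.continuous g.surjective
    · exact IsOpenMap.isQuotientMap g.isOpenMap g.continuous g.surjective
  have hopen : IsOpen {y : Y | IsProper (f.fiberToSpecResidueField y)} := by
    rw [← hquot.isOpen_preimage, hpre]
    exact hopen'
  let U : Y.Opens := ⟨_, hopen⟩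
  refine ⟨U, rfl, ?_⟩
  -- properness after base change
  have hU' : IsProper (pullback.snd (f ∣_ U) (g ∣_ U)) := by
    have h1 : IsProper (f' ∣_ (g ⁻¹ᵁ U)) := by
      apply restrict_of_forall
      intro y' hy'
      refine key y' ?_
      change y' ∈ {y' : Y' | IsProper (f'.fiberToSpecResidueField y')}
      rw [← hpre]
      exact hy'
    refine of_isPullback_of_range_subset (P := @IsProper) f' (g ⁻¹ᵁ U) h1 (g ⁻¹ᵁ U).ι (by simp)
      (a := hpb.lift (pullback.fst (f ∣_ U) (g ∣_ U) ≫ (f ⁻¹ᵁ U).ι)
        (pullback.snd (f ∣_ U) (g ∣_ U) ≫ (g ⁻¹ᵁ U).ι) ?_) ?_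
    · rw [Category.assoc, Category.assoc, ← morphismRestrict_ι, ← morphismRestrict_ι,
        ← Category.assoc, ← Category.assoc, pullback.condition]
    · refine IsPullback.of_right (h₁₂ := pullback.fst f g) (h₂₂ := g) (v₁₃ := f) ?_ ?_ hpb
      · rw [hpb.lift_fst, ← morphismRestrict_ι]
        exact (IsPullback.of_hasPullback (f ∣_ U) (g ∣_ U)).paste_horiz
          (isPullback_morphismRestrict f U).flip
      · exact hpb.lift_snd _ _ _
  have hsep : IsSeparated (f ∣_ U) := inferInstance
  have hlft : LocallyOfFiniteType (f ∣_ U) := inferInstance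
  have hsurj : Surjective (g ∣_ U) := IsZariskiLocalAtTarget.restrict (P := @Surjective) ‹_› U
  have huc : UniversallyClosed (f ∣_ U) := by
    rcases hg with hg | hg
    · have h2 : IsProper (g ∣_ U) := inferInstance
      have h3 : UniversallyClosed (pullback.fst (f ∣_ U) (g ∣_ U) ≫ f ∣_ U) := by
        rw [pullback.condition]
        infer_instance
      exact UniversallyClosed.of_comp_surjective (pullback.fst (f ∣_ U) (g ∣_ U)) (f ∣_ U)
    · have h2 : Flat (g ∣_ U) := inferInstance
      have h3 : QuasiCompact (g ∣_ U) := inferInstance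
      exact MorphismProperty.of_isPullback_of_descendsAlong
        (IsPullback.of_hasPullback (f ∣_ U) (g ∣_ U)).flip
        (P := @UniversallyClosed) (Q := @Surjective ⊓ @Flat ⊓ @QuasiCompact) ⟨⟨hsurj, h2⟩, h3⟩
        hU'.toUniversallyClosed
  exact { }

end Groth.Agent.Ega4fib.H179.Cover
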