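import Groth.Agent.Flat2D.ApproxFP
import Groth.Agent.Flat2G.ApproxFactor
import Groth.Agent.Ega43.LimitDescendIso
import Groth.Agent.Ega43.LimitDescendClosed
import Groth.Agent.S1339
import Groth.Agent.Ega43.GeomFibre
import Mathlib.AlgebraicGeometry.Morphisms.Separated
import Mathlib.AlgebraicGeometry.Morphisms.Proper

/-!
# Noetherian models of separated morphisms of finite presentation with a section and geometrically
connected fibres

* `descendsLim_isSeparated`: separatedness descends to a finite stage.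
* `exists_noetherian_model_section`: let `f : X ⟶ Spec A` be separated, of finite presentation with a
  section and geometrically connected fibres. Then `f` is a base change of such a morphism with
  Noetherian affine target.
-/

set_option autoImplicit false
universe u

open CategoryTheory CategoryTheory.Limits AlgebraicGeometry Opposite

namespace Groth.Agent.Ega4fib.H179.Model

open Groth.Agent.Ega43.LimitDescend Groth.Agent.Ega43.LimitDescendIso
  Groth.Agent.Ega43.LimitDescendClosed Groth.Agent.Flat2D.SpecFGLimit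

/-- Separatedness descends along limits. -/
theorem descendsLim_isSeparated : DescendsLim @IsSeparated.{u} := by
  rw [IsSeparated.isSeparated_eq_diagonal_isClosedImmersion]
  exact descendsLim_diagonal descendsLim_isClosedImmersion

/-- Separatedness and a section descend to a finite stage. -/
theorem exists_stage_section {I : Type u} [SmallCategory I] [IsCofiltered I] (D : I ⥤ Scheme.{u})
    (c : Cone D) (hc : IsLimit c) [∀ (i j : I) (φ : i ⟶ j), IsAffineHom (D.map φ)] (i₀ : I)
    [CompactSpace (D.obj i₀)] [QuasiSeparatedSpace (D.obj i₀)] {X X₀ : Scheme.{u}}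
    (f₀ : X₀ ⟶ D.obj i₀) [LocallyOfFinitePresentation f₀] [QuasiCompact f₀] [QuasiSeparated f₀]
    (g : X ⟶ X₀) (f : X ⟶ c.pt) (hpb : IsPullback g f f₀ (c.π.app i₀)) [IsSeparated f]
    (s : c.pt ⟶ X) (hs : s ≫ f = 𝟙 _) :
    ∃ (m : I) (X₁ : Scheme.{u}) (f₁ : X₁ ⟶ D.obj m) (g₁ : X ⟶ X₁) (s₁ : D.obj m ⟶ X₁),
      LocallyOfFinitePresentation f₁ ∧ QuasiCompact f₁ ∧ IsSeparated f₁ ∧ s₁ ≫ f₁ = 𝟙 _ ∧
      IsPullback g₁ f f₁ (c.π.app m) := by
  let t : ∀ j : Over i₀, (Over.forget i₀ ⋙ D).obj j ⟶ D.obj i₀ := fun j ↦ D.map j.hom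
  have ht : ∀ {i j : Over i₀} (φ : i ⟶ j), (Over.forget i₀ ⋙ D).map φ ≫ t j = t i :=
    fun φ ↦ overT_w D i₀ φ
  have hp : ∀ j, (overCone c i₀).π.app j ≫ t j = c.π.app i₀ := fun j ↦ by
    simp [t]
  -- separatedness
  obtain ⟨j, hj⟩ := descendsLim_isSeparated (Over.forget i₀ ⋙ D) (overCone c i₀)
    (isLimitOverCone c hc i₀) t ht f₀ (c.π.app i₀) hp g f hpb ‹_›
  -- the section
  have h4 : (s ≫ g) ≫ f₀ = c.π.app i₀ := by
    rw [Category.assoc, hpb.w, ← Category.assoc, hs, Category.id_comp]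
  obtain ⟨k, sk, hk1, hk2⟩ := Scheme.exists_π_app_comp_eq_of_locallyOfFinitePresentation
    (Over.forget i₀ ⋙ D) (toConst t ht) f₀ (overCone c i₀) (isLimitOverCone c hc i₀) (s ≫ g) (by
      ext l
      exact (hp l).trans h4.symm)
  -- a common stage
  let m : Over i₀ := IsCofiltered.min j k
  let φ : m ⟶ j := IsCofiltered.minToLeft j k
  let ψ : m ⟶ k := IsCofiltered.minToRight j k
  have hsep : IsSeparated (pullback.snd f₀ (t m)) :=
    MorphismProperty.of_isPullback (isPullback_pbSnd t ht f₀ φ) hj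
  let s₀ : (Over.forget i₀ ⋙ D).obj m ⟶ pullback f₀ (t m) :=
    pullback.lift ((Over.forget i₀ ⋙ D).map ψ ≫ sk) (𝟙 _) (by
      rw [Category.assoc, hk2, Category.id_comp]
      exact ht ψ)
  refine ⟨m.left, pullback f₀ (t m), pullback.snd f₀ (t m),
    (pbCone t ht f₀ (overCone c i₀) (c.π.app i₀) hp g f hpb).π.app m, s₀,
    MorphismProperty.pullback_snd f₀ (t m) ‹_›, MorphismProperty.pullback_snd f₀ (t m) ‹_›, hsep,
    pullback.lift_snd _ _ _, ?_⟩
  exact isPullback_pbCone t ht f₀ (overCone c i₀) (c.π.app i₀) hp g f hpb m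

/-- A separated morphism of finite presentation with a section to an affine scheme has a model over
a finitely generated subring which is separated and has a section. -/
theorem exists_model_section (A : Type u) [CommRing A] {X : Scheme.{u}}
    (f : X ⟶ Spec (CommRingCat.of A)) [IsSeparated f] [LocallyOfFinitePresentation f]
    [QuasiCompact f] (s : Spec (CommRingCat.of A) ⟶ X) (hs : s ≫ f = 𝟙 _) :
    ∃ (S : Subalgebra ℤ A) (_ : S.FG) (X₀ : Scheme.{u}) (f₀ : X₀ ⟶ Spec (CommRingCat.of S))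
      (g : X ⟶ X₀) (s₀ : Spec (CommRingCat.of S) ⟶ X₀),
      LocallyOfFinitePresentation f₀ ∧ QuasiCompact f₀ ∧ IsSeparated f₀ ∧ s₀ ≫ f₀ = 𝟙 _ ∧
      IsPullback g f f₀ (Spec.map (CommRingCat.ofHom S.val.toRingHom)) := by
  obtain ⟨S, hS, X₀, f₀, g, h1, h2, h3, hpb⟩ := Groth.Agent.Flat2D.ApproxFP.exists_model_Spec A f
  let i₀ : (FGSub A)ᵒᵖ := op ⟨S, hS⟩
  have i1 : ∀ (i j : (FGSub A)ᵒᵖ) (φ : i ⟶ j), IsAffineHom ((specDiagram A).map φ) :=
    fun i j φ => inferInstance
  have i2 : CompactSpace ((specDiagram A).obj i₀) := inferInstance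
  have i3 : QuasiSeparatedSpace ((specDiagram A).obj i₀) := inferInstance
  obtain ⟨m, X₁, f₁, g₁, s₁, h4, h5, h6, h7, h8⟩ :=
    @exists_stage_section _ _ _ (specDiagram A) (specCone A) (isLimitSpecCone A) i1 i₀ i2 i3
      X X₀ f₀ h1 h2 h3 g f hpb ‹_› s hs
  exact ⟨m.unop.1, m.unop.2, X₁, f₁, g₁, s₁, h4, h5, h6, h7, h8⟩

/-- The geometric fibres of a surjective morphism are not empty. -/
theorem nGeomConnComp_ne_zero {X Y : Scheme.{u}} (f : X ⟶ Y) [Surjective f] (y : Y) :
    MoreMor.nGeomConnComp f y ≠ 0 := by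
  have h1 : Surjective (f.fiberToSpecResidueField y) :=
    inferInstanceAs (Surjective (pullback.snd f (Y.fromSpecResidueField y)))
  have h2 : Surjective (pullback.snd (f.fiberToSpecResidueField y) (Spec.map (CommRingCat.ofHom
      (algebraMap (Y.residueField y) (SeparableClosure (Y.residueField y)))))) := inferInstance
  obtain ⟨x, -⟩ := h2.surj (IsLocalRing.closedPoint (SeparableClosure (Y.residueField y)))
  intro h
  rw [MoreMor.nGeomConnComp, ENat.card_eq_zero_iff_empty] at h
  exact h.false (ConnectedComponents.mk (α := ↥(MoreMor.geomFiber f y)) x)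

theorem surjective_of_section {X Y : Scheme.{u}} (f : X ⟶ Y) (s : Y ⟶ X) (hs : s ≫ f = 𝟙 Y) :
    Surjective f :=
  ⟨fun y => ⟨s y, by rw [← Scheme.Hom.comp_apply, hs]; rfl⟩⟩

/-- A separated morphism of finite presentation with a section and geometrically connected fibres to
an affine scheme is a base change of such a morphism with Noetherian affine target. -/
theorem exists_noetherian_model_section (A : Type u) [CommRing A] {X : Scheme.{u}}
    (f : X ⟶ Spec (CommRingCat.of A)) [IsSeparated f] [LocallyOfFinitePresentation f]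
    [QuasiCompact f] (s : Spec (CommRingCat.of A) ⟶ X) (hs : s ≫ f = 𝟙 _)
    (hconn : ∀ y : Spec (CommRingCat.of A), MoreMor.nGeomConnComp f y ≤ 1) :
    ∃ (A₁ : Type u) (_ : CommRing A₁) (_ : IsNoetherianRing A₁) (φ : A₁ →+* A) (X₁ : Scheme.{u})
      (f₁ : X₁ ⟶ Spec (CommRingCat.of A₁)) (g : X ⟶ X₁) (s₁ : Spec (CommRingCat.of A₁) ⟶ X₁),
      LocallyOfFinitePresentation f₁ ∧ QuasiCompact f₁ ∧ IsSeparated f₁ ∧ s₁ ≫ f₁ = 𝟙 _ ∧
      (∀ y : Spec (CommRingCat.of A₁), GeometricallyConnected (f₁.fiberToSpecResidueField y)) ∧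
      IsPullback g f f₁ (Spec.map (CommRingCat.ofHom φ)) := by
  obtain ⟨S, hS, X₀, f₀, g, s₀, h1, h2, h3, hs₀, hpb⟩ := exists_model_section A f s hs
  have hSN : IsNoetherianRing S := by
    have := (Subalgebra.fg_iff_finiteType _).1 hS
    exact Algebra.FiniteType.isNoetherianRing ℤ _
  let G : Set (PrimeSpectrum S) := {p | MoreMor.nGeomConnComp f₀ p = 1}
  have hG : Topology.IsConstructible G :=
    (Groth.Agent.S1339.result f₀ 1).isConstructible
  have := surjective_of_section f s hs
  have hmem : ∀ q : Spec (CommRingCat.of A), MoreMor.nGeomConnComp f q = 1 := fun q => by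
    refine le_antisymm (hconn q) ?_
    exact Order.one_le_iff_pos.mpr (pos_iff_ne_zero.mpr (nGeomConnComp_ne_zero f q))
  have hempty : PrimeSpectrum.comap (algebraMap S A) ⁻¹' Gᶜ = ∅ := by
    rw [Set.eq_empty_iff_forall_notMem]
    intro q hq
    apply hq
    have h4 := Groth.Agent.S1335.result f₀ f g _ hpb q
    rw [hmem q] at h4
    exact h4.symm
  obtain ⟨T, hT⟩ := Groth.Agent.Flat2G.ApproxFactor.constructible (A₀ := S) (A := A) hG.compl hempty
  let A₁ : Subalgebra S A := Algebra.adjoin S T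
  have hA₁ : Algebra.FiniteType S A₁ := .adjoin_of_finite T.finite_toSet
  have hN : IsNoetherianRing A₁ := Algebra.FiniteType.isNoetherianRing S A₁
  have h5 := hT A₁ Algebra.subset_adjoin
  let i : Spec (.of A₁) ⟶ Spec (.of S) := Spec.map (CommRingCat.ofHom (algebraMap S A₁))
  let j : Spec (.of A) ⟶ Spec (.of A₁) := Spec.map (CommRingCat.ofHom (algebraMap A₁ A))
  have hji : j ≫ i = Spec.map (CommRingCat.ofHom S.val.toRingHom) := by
    rw [← Spec.map_comp]
    rfl
  have h6 : IsPullback (pullback.fst f₀ i) (pullback.snd f₀ i) f₀ i := .of_hasPullback _ _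
  let k : X ⟶ pullback f₀ i := pullback.lift g (f ≫ j) (by rw [Category.assoc, hji, hpb.w])
  have hk1 : k ≫ pullback.fst f₀ i = g := pullback.lift_fst _ _ _
  have hk2 : k ≫ pullback.snd f₀ i = f ≫ j := pullback.lift_snd _ _ _
  refine ⟨A₁, inferInstance, hN, algebraMap A₁ A, pullback f₀ i, pullback.snd f₀ i, k,
    pullback.lift (i ≫ s₀) (𝟙 _) (by rw [Category.assoc, hs₀, Category.comp_id, Category.id_comp]),
    inferInstance, inferInstance, inferInstance, pullback.lift_snd _ _ _, ?_, ?_⟩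
  · intro q
    apply Groth.Agent.Ega43.GeomFibre.geometricallyConnected_of_nGeomConnComp
    rw [Groth.Agent.S1335.result f₀ (pullback.snd f₀ i) _ _ h6 q]
    by_contra hq
    have : (q : PrimeSpectrum A₁) ∈ PrimeSpectrum.comap (algebraMap S A₁) ⁻¹' Gᶜ := hq
    rw [h5] at this
    exact this
  · refine IsPullback.of_right (h₁₂ := pullback.fst f₀ i) (h₂₂ := i) (v₁₃ := f₀) ?_ hk2 h6
    rw [hk1]
    exact hji ▸ hpb

end Groth.Agent.Ega4fib.H179.Model
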