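import Groth.Agent.Ega4fib.H179.Model
import Groth.Agent.Ega4fib.H179.Cover
import Groth.Agent.S2569

/-!
# Properness near a point with proper fibre, for a morphism with a section and geometrically connected
fibres
-/

set_option autoImplicit false
universe u

open CategoryTheory CategoryTheory.Limits AlgebraicGeometry

namespace Groth.Agent.Ega4fib.H179.SectionCase

open Groth.Agent.Ega4fib.H179.Basic Groth.Agent.Ega4fib.H179.Cover Groth.Agent.Ega4fib.H179.Model

theorem affine (A : Type u) [CommRing A] {X : Scheme.{u}} (f : X ⟶ Spec (CommRingCat.of A))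
    [IsSeparated f] [LocallyOfFinitePresentation f] [QuasiCompact f]
    (s : Spec (CommRingCat.of A) ⟶ X) (hs : s ≫ f = 𝟙 _)
    (hconn : ∀ y : Spec (CommRingCat.of A), MoreMor.nGeomConnComp f y ≤ 1)
    (y : Spec (CommRingCat.of A)) (hy : IsProper (f.fiberToSpecResidueField y)) :
    ∃ U : (Spec (CommRingCat.of A)).Opens, y ∈ U ∧ IsProper (f ∣_ U) := by
  obtain ⟨A₁, _, _, φ, X₁, f₁, g, s₁, h1, h2, h3, h4, h5, hpb⟩ :=
    exists_noetherian_model_section A f s hs hconn
  have hy₁ := (isProper_fiber_iff f₁ f g _ hpb y).mp hy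
  obtain ⟨U, hyU, hU⟩ := Groth.Agent.S2569.result f₁
    (universally_isQuotientMap_of_section f₁ s₁ h4) h5 _ hy₁
  refine ⟨(Spec.map (CommRingCat.ofHom φ)) ⁻¹ᵁ U, hyU, ?_⟩
  refine of_isPullback_of_range_subset (P := @IsProper) f₁ U hU
    ((Spec.map (CommRingCat.ofHom φ) ⁻¹ᵁ U).ι ≫ Spec.map (CommRingCat.ofHom φ)) ?_
    ((isPullback_morphismRestrict f _).flip.paste_horiz hpb)
  rintro _ ⟨z, rfl⟩
  exact z.2

/-- If the base change of `f` along an open immersion `j` is proper over an open `U`, then `f` is proper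
over the image of `U`. -/
theorem isProper_restrict_image {X Y T : Scheme.{u}} (f : X ⟶ Y) (j : T ⟶ Y) [IsOpenImmersion j]
    (U : T.Opens) (hU : IsProper (pullback.snd f j ∣_ U)) : IsProper (f ∣_ (j ''ᵁ U)) := by
  have hr : Set.range (j ''ᵁ U).ι ⊆ Set.range j := by
    rintro _ ⟨z, rfl⟩
    obtain ⟨w, -, hw⟩ := z.2
    exact ⟨w, hw⟩
  let u : (j ''ᵁ U : Scheme.{u}) ⟶ T := IsOpenImmersion.lift j (j ''ᵁ U).ι hr
  have hu : u ≫ j = (j ''ᵁ U).ι := IsOpenImmersion.lift_fac _ _ _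
  have h1 : IsPullback (f ⁻¹ᵁ (j ''ᵁ U)).ι (f ∣_ (j ''ᵁ U)) f (j ''ᵁ U).ι :=
    (isPullback_morphismRestrict f _).flip
  have h2 : IsPullback (pullback.fst f j) (pullback.snd f j) f j := .of_hasPullback _ _
  refine of_isPullback_of_range_subset (P := @IsProper) (pullback.snd f j) U hU u ?_
    (a := pullback.lift (f ⁻¹ᵁ (j ''ᵁ U)).ι (f ∣_ (j ''ᵁ U) ≫ u)
      (by rw [Category.assoc, hu, h1.w])) ?_
  · rintro _ ⟨z, rfl⟩
    obtain ⟨w, hwU, hw⟩ := z.2
    have h3 : j (u z) = j w := by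
      rw [← Scheme.Hom.comp_apply, hu]
      exact hw.symm
    rw [j.isOpenEmbedding.injective h3]
    exact hwU
  · refine IsPullback.of_right (h₁₂ := pullback.fst f j) (h₂₂ := j) (v₁₃ := f) ?_ ?_ h2
    · rw [pullback.lift_fst, hu]
      exact h1
    · exact pullback.lift_snd _ _ _

theorem sectionCase : SectionCase.{u} := by
  intro X Y f _ _ _ s hs hconn y hy
  obtain ⟨V, hV, hyV, -⟩ := exists_isAffineOpen_mem_and_subset (x := y) (U := ⊤) trivial
  let j : Spec Γ(Y, V) ⟶ Y := hV.fromSpec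
  have hpb : IsPullback (pullback.fst f j) (pullback.snd f j) f j := .of_hasPullback _ _
  obtain ⟨y₁, hy₁⟩ : y ∈ Set.range j := by
    rw [hV.range_fromSpec]
    exact hyV
  obtain ⟨U, hyU, hU⟩ := affine Γ(Y, V) (pullback.snd f j) (pullback.lift (j ≫ s) (𝟙 _) (by
      rw [Category.assoc, hs, Category.comp_id, Category.id_comp])) (pullback.lift_snd _ _ _)
    (fun z => by
      rw [Groth.Agent.S1335.result f (pullback.snd f j) _ _ hpb z]
      exact hconn _) y₁ (by
      rw [isProper_fiber_iff f (pullback.snd f j) _ _ hpb y₁, hy₁]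
      exact hy)
  exact ⟨j ''ᵁ U, ⟨y₁, hyU, hy₁⟩, isProper_restrict_image f j U hU⟩

end Groth.Agent.Ega4fib.H179.SectionCase
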